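import Mathlib.Algebra.MvPolynomial.Expand
import Mathlib.LinearAlgebra.Finsupp.VectorSpace
import Mathlib.RingTheory.RingHom.Flat

/-!
# `MvPolynomial.expand` is flat
-/

noncomputable section

namespace Groth.Agent.Lib.RelFrobFlat.Expand

open MvPolynomial

variable {R : Type*} [CommRing R] (σ : Type*) [Fintype σ] (p : ℕ) [NeZero p]

/-- Division with remainder of exponents. -/
def divMod : (Σ _ : σ → Fin p, σ →₀ ℕ) ≃ (σ →₀ ℕ) where
  toFun x := p • x.2 + Finsupp.equivFunOnFinite.symm fun i => (x.1 i : ℕ)
  invFun m := ⟨fun i => Fin.ofNat p (m i), Finsupp.equivFunOnFinite.symm fun i => m i / p⟩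
  left_inv x := by
    obtain ⟨r, m⟩ := x
    have h : ∀ i, (r i : ℕ) < p := fun i => (r i).2
    refine Sigma.ext (funext fun i => Fin.ext ?_) (heq_of_eq (Finsupp.ext fun i => ?_))
    · simp [Nat.mod_eq_of_lt (h i)]
    · simp [Nat.mul_add_div (Nat.pos_of_neZero p), Nat.div_eq_of_lt (h i)]
  right_inv m := by
    ext i
    simp [Nat.div_add_mod]

theorem flat_of_basis {A B ι : Type*} [CommRing A] [CommRing B] (φ : A →+* B) (f : ι → B)
    (h : Function.Bijective fun q : ι →₀ A => q.sum fun i c => φ c * f i) : φ.Flat := by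
  algebraize [φ]
  have hLC : ⇑(Finsupp.linearCombination A f) = fun q : ι →₀ A => q.sum fun i c => φ c * f i := by
    funext q
    rw [Finsupp.linearCombination_apply]
    rfl
  exact Module.Flat.of_linearEquiv
    (LinearEquiv.ofBijective (Finsupp.linearCombination A f) (by rw [hLC]; exact h)).symm

theorem flat_expand : (expand p (σ := σ) (R := R)).toRingHom.Flat := by
  classical
  let f : (σ → Fin p) → MvPolynomial σ R := fun r => monomial (Finsupp.equivFunOnFinite.symm fun i => (r i : ℕ)) 1
  let L : ((σ → Fin p) →₀ MvPolynomial σ R) →ₗ[R] MvPolynomial σ R :=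
    { toFun := fun q => q.sum fun r c => expand p c * f r
      map_add' := fun x y => Finsupp.sum_add_index' (by simp) (by simp [add_mul])
      map_smul' := fun c x => by
        rw [Finsupp.sum_smul_index' (by simp), RingHom.id_apply, Finsupp.smul_sum]
        exact Finsupp.sum_congr fun r _ => by rw [map_smul, smul_mul_assoc] }
  let b : Module.Basis (Σ _ : σ → Fin p, σ →₀ ℕ) R ((σ → Fin p) →₀ MvPolynomial σ R) :=
    Finsupp.basis fun _ => basisMonomials σ R
  have hL : L = (b.equiv (basisMonomials σ R) (divMod σ p)).toLinearMap := by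
    refine b.ext fun x => ?_
    rw [LinearEquiv.coe_coe, Module.Basis.equiv_apply]
    obtain ⟨r, m⟩ := x
    rw [coe_basisMonomials]
    simp only [b, Finsupp.coe_basis, coe_basisMonomials]
    show (Finsupp.single r (monomial m (1 : R))).sum (fun r c => expand p c * f r) = _
    rw [Finsupp.sum_single_index (by simp), expand_monomial, monomial_mul, mul_one]
    rfl
  have hbij : Function.Bijective L := by
    rw [hL]; exact (b.equiv (basisMonomials σ R) (divMod σ p)).bijective
  exact flat_of_basis _ f hbij

end Groth.Agent.Lib.RelFrobFlat.Expand
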