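import Groth.Prelude.Def_FrobAlg
import Groth.Agent.Lib.RelFrobFlat.Expand
import Mathlib.RingTheory.Etale.Weakly
import Mathlib.RingTheory.RingHom.StandardSmooth
import Mathlib.RingTheory.Smooth.StandardSmoothOfFree
import Mathlib.RingTheory.TensorProduct.MvPolynomial
import Mathlib.Algebra.CharP.Algebra
import Mathlib.RingTheory.RingHom.Etale

/-!
# The relative Frobenius of a smooth algebra is flat
-/

noncomputable section

universe u v w

open scoped TensorProduct

namespace Groth.Agent.Lib.RelFrobFlat.Main

/-- A module-flat algebra over `R` is flat over any weakly étale intermediate algebra. -/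
theorem flat_of_weaklyEtale (R S B : Type*) [CommRing R] [CommRing S] [CommRing B] [Algebra R S]
    [Algebra R B] [Algebra S B] [IsScalarTower R S B] [Algebra.WeaklyEtale R S] [Module.Flat R B] :
    Module.Flat S B := by
  let lm : S ⊗[R] S →ₐ[S] S := Algebra.TensorProduct.lift (AlgHom.id S S) (AlgHom.id R S) fun _ _ => Commute.all _ _
  have hlm : (lm.restrictScalars R : S ⊗[R] S →ₐ[R] S) = Algebra.TensorProduct.lmul' R := by
    apply Algebra.TensorProduct.ext <;> ext a <;> simp [lm]
  have hlmflat : lm.toRingHom.Flat := by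
    have := Algebra.WeaklyEtale.flat_lmul' R S
    rw [← hlm] at this
    exact this
  let m : B ⊗[S] (S ⊗[R] S) →ₐ[B] B ⊗[S] S := Algebra.TensorProduct.map (AlgHom.id B B) lm
  have hm : m.toRingHom.Flat :=
    RingHom.Flat.tensorProductMap (RingHom.Flat.of_bijective Function.bijective_id) hlmflat
  let c := Algebra.TensorProduct.cancelBaseChange R S B B S
  let ψ : B ⊗[R] S →+* B :=
    ((Algebra.TensorProduct.rid S B B).toAlgHom.toRingHom.comp m.toRingHom).comp c.symm.toAlgHom.toRingHom
  have hψ : ψ.Flat :=
    (RingHom.Flat.comp (RingHom.Flat.of_bijective c.symm.bijective)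
      (RingHom.Flat.comp hm (RingHom.Flat.of_bijective (Algebra.TensorProduct.rid S B B).bijective)))
  have hr : (Algebra.TensorProduct.includeRight : S →ₐ[R] B ⊗[R] S).toRingHom.Flat := by
    have h1 : (algebraMap S (S ⊗[R] B)).Flat := RingHom.flat_algebraMap_iff.mpr inferInstance
    have h2 := h1.comp (RingHom.Flat.of_bijective (f := (Algebra.TensorProduct.comm R S B).toAlgHom.toRingHom)
      (Algebra.TensorProduct.comm R S B).bijective)
    exact h2
  have heq : algebraMap S B = ψ.comp (Algebra.TensorProduct.includeRight : S →ₐ[R] B ⊗[R] S).toRingHom := by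
    ext s
    simp [ψ, m, c, lm, Algebra.smul_def]
  rw [← RingHom.flat_algebraMap_iff, heq]
  exact hr.comp hψ

/-- Ring homomorphism form of `flat_of_weaklyEtale`. -/
theorem flat_of_etale_of_comp {R S B : Type*} [CommRing R] [CommRing S] [CommRing B] (h : R →+* S)
    (φ : S →+* B) (hh : h.Etale) (hf : (φ.comp h).Flat) : φ.Flat := by
  algebraize [h, φ, φ.comp h]
  exact flat_of_weaklyEtale R S B

variable (p : ℕ) [Fact p.Prime] (A : Type u) [CommRing A] [CharP A p]

section

variable (B : Type v) [CommRing B] [Algebra A B] [CharP B p]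

theorem relFrob_tmul (b : B) (a : FrobAlg.Twist p A) :
    FrobAlg.relFrob p A B (b ⊗ₜ a) = b ^ p * algebraMap A B ((FrobAlg.toTwist p A).symm a) := by
  simp [FrobAlg.relFrob, FrobAlg.frobHom, FrobAlg.inclHom, frobenius_def]

/-- Functoriality of the relative Frobenius. -/
theorem relFrob_natural (C : Type w) [CommRing C] [Algebra A C] [CharP C p] (g : B →ₐ[A] C) :
    (FrobAlg.relFrob p A C).comp (Algebra.TensorProduct.map g (AlgHom.id A (FrobAlg.Twist p A))).toRingHom =
      g.toRingHom.comp (FrobAlg.relFrob p A B) := by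
  refine RingHom.ext fun z => ?_
  induction z using TensorProduct.induction_on with
  | zero => simp
  | tmul b a => simp [relFrob_tmul]
  | add x y hx hy => rw [map_add, map_add, hx, hy]

end

section Poly

variable (σ : Type w) [Fintype σ]

theorem relFrob_flat_mvPolynomial [CharP (MvPolynomial σ A) p] :
    (FrobAlg.relFrob p A (MvPolynomial σ A)).Flat := by
  let e := (MvPolynomial.mapEquiv σ (FrobAlg.toTwist p A)).trans
    ((MvPolynomial.algebraTensorAlgEquiv A (FrobAlg.Twist p A) (σ := σ)).symm.toRingEquiv.trans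
      (Algebra.TensorProduct.comm A (FrobAlg.Twist p A) (MvPolynomial σ A)).toRingEquiv)
  have hC : ∀ a : A, e (MvPolynomial.C a) = 1 ⊗ₜ FrobAlg.toTwist p A a := by
    intro a
    have h0 : (MvPolynomial.algebraTensorAlgEquiv A (FrobAlg.Twist p A) (σ := σ)).symm
        (MvPolynomial.C (FrobAlg.toTwist p A a)) = FrobAlg.toTwist p A a ⊗ₜ 1 := by
      rw [AlgEquiv.symm_apply_eq, MvPolynomial.algebraTensorAlgEquiv_tmul, map_one, Algebra.smul_def, mul_one]
      rfl
    simp [e, h0]
  have hX : ∀ i : σ, e (MvPolynomial.X i) = MvPolynomial.X i ⊗ₜ 1 := by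
    intro i
    have h0 : (MvPolynomial.algebraTensorAlgEquiv A (FrobAlg.Twist p A) (σ := σ)).symm
        (MvPolynomial.X i) = 1 ⊗ₜ MvPolynomial.X i := by
      rw [AlgEquiv.symm_apply_eq, MvPolynomial.algebraTensorAlgEquiv_tmul, one_smul, MvPolynomial.map_X]
    simp [e, h0]
  have key : (FrobAlg.relFrob p A (MvPolynomial σ A)).comp e.toRingHom =
      (MvPolynomial.expand p (σ := σ) (R := A)).toRingHom := by
    refine MvPolynomial.ringHom_ext (fun a => ?_) (fun i => ?_)
    · simp [hC, relFrob_tmul]
    · simp [hX, relFrob_tmul]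
  have : NeZero p := ⟨(Fact.out : p.Prime).ne_zero⟩
  rw [← RingHom.Flat.comp_iff_of_bijective_right (g := e.toRingHom) e.bijective, key]
  exact Expand.flat_expand σ p

end Poly

theorem relFrob_flat_of_etale (σ : Type w) [Fintype σ] [CharP (MvPolynomial σ A) p]
    (B : Type v) [CommRing B] [Algebra A B] [CharP B p] [Algebra (MvPolynomial σ A) B]
    [IsScalarTower A (MvPolynomial σ A) B] [Algebra.Etale (MvPolynomial σ A) B] :
    (FrobAlg.relFrob p A B).Flat := by
  let P := MvPolynomial σ A
  let g : P →ₐ[A] B := IsScalarTower.toAlgHom A P B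
  let h : P ⊗[A] FrobAlg.Twist p A →+* B ⊗[A] FrobAlg.Twist p A :=
    (Algebra.TensorProduct.map g (AlgHom.id A (FrobAlg.Twist p A))).toRingHom
  refine flat_of_etale_of_comp h (FrobAlg.relFrob p A B) ?_ ?_
  swap
  · rw [show (FrobAlg.relFrob p A B).comp h = g.toRingHom.comp (FrobAlg.relFrob p A P) from
      relFrob_natural p A P B g]
    refine RingHom.Flat.comp (relFrob_flat_mvPolynomial p A σ) ?_
    change (algebraMap P B).Flat
    rw [RingHom.flat_algebraMap_iff]
    infer_instance
  · let := h.toAlgebra
    change Algebra.Etale (P ⊗[A] FrobAlg.Twist p A) (B ⊗[A] FrobAlg.Twist p A)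
    let e₀ : (P ⊗[A] FrobAlg.Twist p A) ⊗[P] B ≃+* B ⊗[A] FrobAlg.Twist p A :=
      (Algebra.TensorProduct.comm P (P ⊗[A] FrobAlg.Twist p A) B).toRingEquiv.trans
        (Algebra.TensorProduct.cancelBaseChange A P P B (FrobAlg.Twist p A)).toRingEquiv
    let e : (P ⊗[A] FrobAlg.Twist p A) ⊗[P] B ≃ₐ[P ⊗[A] FrobAlg.Twist p A] B ⊗[A] FrobAlg.Twist p A :=
      AlgEquiv.ofRingEquiv (f := e₀) fun z => by
        change e₀ (z ⊗ₜ 1) = h z
        induction z using TensorProduct.induction_on with
        | zero => simp
        | tmul x a => simp [e₀, h, g, Algebra.smul_def]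
        | add x y hx hy => rw [TensorProduct.add_tmul, map_add, map_add, hx, hy]
    exact Algebra.Etale.of_equiv (A := (P ⊗[A] FrobAlg.Twist p A) ⊗[P] B) e

theorem relFrob_flat_of_isStandardSmooth (B : Type v) [CommRing B] [Algebra A B] [CharP B p]
    [Algebra.IsStandardSmooth A B] : (FrobAlg.relFrob p A B).Flat := by
  have : (algebraMap A B).IsStandardSmooth := RingHom.isStandardSmooth_algebraMap.mpr inferInstance
  obtain ⟨n, g, hgC, hge⟩ := this.exists_etale_mvPolynomial
  algebraize [g]
  have : IsScalarTower A (MvPolynomial (Fin n) A) B := IsScalarTower.of_algebraMap_eq' hgC.symm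
  have : CharP (MvPolynomial (Fin n) A) p := inferInstance
  exact relFrob_flat_of_etale p A (Fin n) B

theorem relFrob_flat (B : Type v) [CommRing B] [Algebra A B] [CharP B p] [Algebra.Smooth A B] :
    (FrobAlg.relFrob p A B).Flat := by
  obtain ⟨s, hs, h⟩ := Algebra.Smooth.exists_span_eq_top_isStandardSmooth A B
  let := (FrobAlg.relFrob p A B).toAlgebra
  change Module.Flat (B ⊗[A] FrobAlg.Twist p A) B
  refine Module.flat_of_isLocalized_span _ B s hs _
    (fun r ↦ Algebra.linearMap B <| Localization.Away r.1) ?_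
  intro r
  have hflat : ((algebraMap B (Localization.Away r.1)).comp (FrobAlg.relFrob p A B)).Flat := by
    by_cases hsub : Subsingleton (Localization.Away r.1)
    · unfold RingHom.Flat
      infer_instance
    · have : Nontrivial (Localization.Away r.1) := not_subsingleton_iff_nontrivial.mp hsub
      have : CharP (Localization.Away r.1) p := by
        rw [CharP.charP_iff_prime_eq_zero Fact.out, ← map_natCast (algebraMap B (Localization.Away r.1)),
          CharP.cast_eq_zero, map_zero]
      have : Algebra.IsStandardSmooth A (Localization.Away r.1) := h r.1 r.2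
      let g : B →ₐ[A] Localization.Away r.1 := IsScalarTower.toAlgHom A B _
      rw [show algebraMap B (Localization.Away r.1) = g.toRingHom from rfl,
        ← relFrob_natural p A B _ g]
      refine RingHom.Flat.comp ?_ (relFrob_flat_of_isStandardSmooth p A _)
      refine RingHom.Flat.tensorProductMap (f := g) ?_ (RingHom.Flat.of_bijective Function.bijective_id)
      change (algebraMap B (Localization.Away r.1)).Flat
      rw [RingHom.flat_algebraMap_iff]
      exact IsLocalization.flat (Localization.Away r.1) (Submonoid.powers r.1)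
  dsimp only [RingHom.Flat] at hflat
  convert! hflat
  ext
  apply Algebra.smul_def

end Groth.Agent.Lib.RelFrobFlat.Main
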